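import Mathlib

/-!
# S3510, (SYM) and (HER): finite fields with an involution (helper579)

* `gal_pow` : an `F`-automorphism of a finite field is a power of the Frobenius map;
* `Free F b` : `b⁻¹` is not conjugate to `b` over `F`;
* `exists_free` : a generator of `K^*`, `[K : F] ≥ 2`, `|F| ≥ 3`;
* `invol` : an involution `s` of `K` is `x ↦ x ^ Q`, `|K| = Q ^ 2`;
* `exists_norm` : `s z = z` implies `z = k * s k`;
* `exists_free_fix` : `b` with `s b = b`, if `|K| ≠ 9`.
-/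

set_option autoImplicit false

namespace Cfsg.Agent.H579.RC

open Module Polynomial

section

variable {F K : Type*} [Field F] [Field K] [Algebra F K] [Finite K]

include F in
theorem gal_pow (s : K ≃ₐ[F] K) : ∃ i < finrank F K, ∀ x, s x = x ^ Nat.card F ^ i := by
  have : Finite F := Finite.of_injective _ (algebraMap F K).injective
  have := Fintype.ofFinite F
  obtain ⟨n, hn⟩ := (FiniteField.bijective_frobeniusAlgEquivOfAlgebraic_pow F K).2 s
  refine ⟨n, n.2, fun x => ?_⟩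
  rw [← hn, Nat.card_eq_fintype_card]
  have h1 := congrFun (FiniteField.coe_frobeniusAlgEquivOfAlgebraic_iterate F K n.1) x
  have h2 : ∀ (σ : K ≃ₐ[F] K) (m : ℕ), (σ ^ m) x = σ^[m] x := by
    intro σ m
    induction m with
    | zero => rfl
    | succ m ih => rw [pow_succ', AlgEquiv.mul_apply, ih, Function.iterate_succ_apply']
  show (FiniteField.frobeniusAlgEquivOfAlgebraic F K ^ n.1) x = _
  rw [h2]
  exact h1

variable (F) in
/-- `b⁻¹` is not conjugate to `b` -/
def Free (b : K) : Prop := aeval b⁻¹ (minpoly F b) ≠ 0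

theorem free_of {b : K} (h : ∀ i < finrank F K, b ^ (Nat.card F ^ i) ≠ b⁻¹) : Free F b := by
  intro h0
  have : Finite F := Finite.of_injective _ (algebraMap F K).injective
  have hb : IsIntegral F b := Algebra.IsIntegral.isIntegral b
  have h1 : minpoly F b = minpoly F b⁻¹ :=
    minpoly.eq_of_irreducible_of_monic (minpoly.irreducible hb) h0 (minpoly.monic hb)
  have h2 : IsConjRoot F b⁻¹ b := h1.symm
  obtain ⟨σ, hσ⟩ := isConjRoot_iff_exists_algEquiv.1 h2
  obtain ⟨i, hi, hi'⟩ := gal_pow σ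
  apply h i hi
  rw [← hi', hσ]

theorem natCard_pow : Nat.card K = Nat.card F ^ finrank F K := by
  have : Finite F := Finite.of_injective _ (algebraMap F K).injective
  exact Module.natCard_eq_pow_finrank

variable (K) in
theorem exists_gen : ∃ g : K, g ≠ 0 ∧ orderOf g = Nat.card K - 1 ∧ ∀ z : K, z ≠ 0 → ∃ n : ℕ, z = g ^ n := by
  classical
  have := Fintype.ofFinite K
  obtain ⟨g, hg⟩ := IsCyclic.exists_generator (α := Kˣ)
  refine ⟨g, g.ne_zero, ?_, ?_⟩
  · rw [orderOf_units, orderOf_eq_card_of_forall_mem_zpowers hg, Nat.card_eq_fintype_card, Nat.card_eq_fintype_card,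
      Fintype.card_units]
  · intro z hz
    obtain ⟨n, hn⟩ := mem_powers_iff_mem_zpowers.2 (hg (Units.mk0 z hz))
    refine ⟨n, ?_⟩
    have h1 := congrArg Units.val hn
    rw [Units.val_mk0] at h1
    rw [← h1]
    simp

/-- arithmetic -/
theorem ar {q d i : ℕ} (hq : 3 ≤ q) (hd : 2 ≤ d) (hi : i < d) (h : q ^ d - 1 ∣ q ^ i + 1) : False := by
  have h1 := Nat.le_of_dvd (by positivity) h
  have h2 : q ^ i ≤ q ^ (d - 1) := Nat.pow_le_pow_right (by omega) (by omega)
  have h3 : q ^ d = q * q ^ (d - 1) := by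
    rw [← pow_succ']
    congr 1
    omega
  have h4 : 3 ≤ q ^ (d - 1) := by
    calc 3 ≤ q := hq
      _ = q ^ 1 := (pow_one q).symm
      _ ≤ q ^ (d - 1) := Nat.pow_le_pow_right (by omega) (by omega)
  have h5 : 3 * q ^ (d - 1) ≤ q * q ^ (d - 1) := Nat.mul_le_mul_right _ hq
  omega

theorem exists_free (hF : 3 ≤ Nat.card F) (hd : 2 ≤ finrank F K) :
    ∃ b : K, b ≠ 0 ∧ Free F b := by
  obtain ⟨g, hg0, hg, -⟩ := exists_gen K
  refine ⟨g, hg0, free_of fun i hi h => ?_⟩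
  have h1 : g ^ (Nat.card F ^ i + 1) = 1 := by
    rw [pow_succ, h, inv_mul_cancel₀ hg0]
  have h2 := orderOf_dvd_of_pow_eq_one h1
  rw [hg, natCard_pow (F := F)] at h2
  exact ar hF hd hi h2

theorem dvd_of_pow_sub {q a b : ℕ} (hq : 2 ≤ q) (h : q ^ a - 1 ∣ q ^ b - 1) : a ∣ b := by
  have h1 := Nat.gcd_eq_left h
  rw [Nat.pow_sub_one_gcd_pow_sub_one] at h1
  have h2 : q ^ Nat.gcd a b = q ^ a := by
    have h3 : 1 ≤ q ^ Nat.gcd a b := Nat.one_le_pow _ _ (by omega)
    have h4 : 1 ≤ q ^ a := Nat.one_le_pow _ _ (by omega)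
    omega
  exact Nat.gcd_eq_left_iff_dvd.1 (Nat.pow_right_injective hq h2)

/-- an involution of a finite field -/
theorem invol {s : K ≃ₐ[F] K} (hs : ∀ x, s (s x) = x) (hs1 : ∃ x, s x ≠ x) :
    ∃ e, 1 ≤ e ∧ finrank F K = 2 * e ∧ Nat.card K = (Nat.card F ^ e) ^ 2 ∧ ∀ x, s x = x ^ (Nat.card F ^ e) := by
  have hfin : Finite F := Finite.of_injective _ (algebraMap F K).injective
  have hq : 2 ≤ Nat.card F := by
    have := Finite.one_lt_card (α := F)
    omega
  obtain ⟨i, hi, h⟩ := gal_pow s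
  obtain ⟨g, hg0, hg, -⟩ := exists_gen K
  have hi0 : i ≠ 0 := by
    rintro rfl
    obtain ⟨x, hx⟩ := hs1
    apply hx
    rw [h, pow_zero, pow_one]
  have h1 : g ^ (Nat.card F ^ (2 * i) - 1) = 1 := by
    have h2 := hs g
    rw [h, h, ← pow_mul, ← pow_add, ← two_mul] at h2
    have h3 : 1 ≤ Nat.card F ^ (2 * i) := Nat.one_le_pow _ _ (by omega)
    have h4 : g ^ (Nat.card F ^ (2 * i) - 1) * g = 1 * g := by
      rw [← pow_succ, Nat.sub_add_cancel h3, h2, one_mul]
    exact mul_right_cancel₀ hg0 h4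
  have h2 := orderOf_dvd_of_pow_eq_one h1
  rw [hg, natCard_pow (F := F)] at h2
  have h3 : finrank F K ∣ 2 * i := dvd_of_pow_sub hq h2
  have h4 : finrank F K = 2 * i := by
    obtain ⟨c, hc⟩ := h3
    have h5 : c < 2 := by
      by_contra hcon
      have := Nat.mul_le_mul_left (finrank F K) (show 2 ≤ c by omega)
      omega
    have h6 : c ≠ 0 := by
      rintro rfl
      omega
    have h7 : c = 1 := by omega
    rw [h7, mul_one] at hc
    exact hc.symm
  refine ⟨i, by omega, h4, ?_, h⟩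
  rw [natCard_pow (F := F), h4, ← pow_mul, mul_comm]

/-- the norm is surjective -/
theorem exists_norm {s : K ≃ₐ[F] K} (hs : ∀ x, s (s x) = x) (hs1 : ∃ x, s x ≠ x) {z : K} (hz : s z = z) (hz0 : z ≠ 0) :
    ∃ k : K, k ≠ 0 ∧ k * s k = z := by
  obtain ⟨e, he, -, hcard, hpow⟩ := invol hs hs1
  obtain ⟨g, hg0, hg, hgen⟩ := exists_gen K
  obtain ⟨n, rfl⟩ := hgen z hz0
  set Q := Nat.card F ^ e with hQ
  have hfin : Finite F := Finite.of_injective _ (algebraMap F K).injective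
  have hQ2 : 2 ≤ Q := by
    have h1 := Finite.one_lt_card (α := F)
    calc 2 ≤ Nat.card F ^ 1 := by rw [pow_one]; exact h1
      _ ≤ Q := Nat.pow_le_pow_right (by omega) he
  have h1 : g ^ (n * (Q - 1)) = 1 := by
    rw [hpow, ← pow_mul] at hz
    have h2 : g ^ (n * (Q - 1)) * g ^ n = 1 * g ^ n := by
      rw [← pow_add, one_mul]
      have h3 : n * (Q - 1) + n = n * Q := by
        rw [← Nat.mul_succ]
        congr 1
        omega
      rw [h3, hz]
    exact mul_right_cancel₀ (pow_ne_zero n hg0) h2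
  have h2 := orderOf_dvd_of_pow_eq_one h1
  rw [hg, hcard] at h2
  have h3 : Q ^ 2 - 1 = (Q + 1) * (Q - 1) := by
    have := Nat.sq_sub_sq Q 1
    rwa [one_pow] at this
  rw [h3] at h2
  obtain ⟨c, rfl⟩ := Nat.dvd_of_mul_dvd_mul_right (by omega) h2
  refine ⟨g ^ c, pow_ne_zero _ hg0, ?_⟩
  rw [hpow, ← pow_mul, ← pow_add]
  congr 1
  ring

theorem exists_free_fix {s : K ≃ₐ[F] K} (hF : 3 ≤ Nat.card F) (hs : ∀ x, s (s x) = x) (hs1 : ∃ x, s x ≠ x)
    (h9 : Nat.card K ≠ 9) : ∃ b : K, b ≠ 0 ∧ s b = b ∧ Free F b := by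
  obtain ⟨e, he, hfr, hcard, hpow⟩ := invol hs hs1
  obtain ⟨g, hg0, hg, hgen⟩ := exists_gen K
  set q := Nat.card F with hq
  set Q := q ^ e with hQ
  have hQ3 : 3 ≤ Q := by
    calc 3 ≤ q ^ 1 := by rw [pow_one]; exact hF
      _ ≤ Q := Nat.pow_le_pow_right (by omega) he
  have h3 : Q ^ 2 - 1 = (Q + 1) * (Q - 1) := by
    have := Nat.sq_sub_sq Q 1
    rwa [one_pow] at this
  have hord : ∀ j : ℕ, (g ^ (Q + 1)) ^ j = 1 → Q - 1 ∣ j := by
    intro j hj
    rw [← pow_mul] at hj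
    have h1 := orderOf_dvd_of_pow_eq_one hj
    rw [hg, hcard, h3] at h1
    exact Nat.dvd_of_mul_dvd_mul_left (by omega) h1
  have hsb : s (g ^ (Q + 1)) = g ^ (Q + 1) := by
    have h1 : g ^ (Q + 1) = g * s g := by
      rw [hpow, pow_succ']
    rw [h1, map_mul, hs, mul_comm]
  have hb0 : g ^ (Q + 1) ≠ 0 := pow_ne_zero _ hg0
  refine ⟨g ^ (Q + 1), hb0, hsb, free_of fun i hi h => ?_⟩
  have key : ∀ i < e, (g ^ (Q + 1)) ^ (q ^ i) ≠ (g ^ (Q + 1))⁻¹ := by
    intro i hi h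
    have h1 : (g ^ (Q + 1)) ^ (q ^ i + 1) = 1 := by
      rw [pow_succ, h, inv_mul_cancel₀ hb0]
    have h2 := hord _ h1
    rcases Nat.lt_or_ge 1 e with he1 | he1
    · exact ar hF he1 hi h2
    · obtain rfl : e = 1 := by omega
      obtain rfl : i = 0 := by omega
      rw [pow_zero] at h2
      have h4 := Nat.le_of_dvd (by norm_num) h2
      have h5 : Q = 3 := by omega
      rw [h5] at hcard
      exact h9 (by rw [hcard]; norm_num)
  rcases Nat.lt_or_ge i e with hie | hie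
  · exact key i hie h
  · obtain ⟨j, rfl⟩ : ∃ j, i = e + j := ⟨i - e, by omega⟩
    apply key j (by omega)
    have h4 : (g ^ (Q + 1)) ^ Q = g ^ (Q + 1) := by rw [← hpow, hsb]
    rw [← h]
    generalize g ^ (Q + 1) = b at h4
    show b ^ (q ^ j) = b ^ (q ^ (e + j))
    rw [pow_add, pow_mul, ← hQ, h4]

end

end Cfsg.Agent.H579.RC
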