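import Cfsg.Agent.H579.RC.Cover

/-!
# S3510: the line rule (helper579)

`a : R → G` additive (`R` a finite field), commuting elements `z i` with `z i * a c * (z i)⁻¹ = a (ν i * c)`, `ν i ≠ 1`.
Then the `z i` do not cover `Ω` (no condition on the orders of the `z i`).
-/

set_option autoImplicit false

namespace Cfsg.Agent.H579.RC

open MulAction Cfsg.Agent.H106.RC

/-- **Line rule.** -/
theorem line_rule {G Ω κ R : Type*} [Group G] [Finite G] [MulAction G Ω] [Nonempty Ω] {N : Subgroup G}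
    (hE : Env G Ω N) [Field R] [Finite R] [Finite κ] {z : κ → G} (hc : ∀ i j, z i * z j = z j * z i)
    (hcov : Cov Ω z) {a : R → G} (ha : ∀ c d, a (c + d) = a c * a d) (ha1 : ∃ c, a c ≠ 1) {ν : κ → R}
    (hν : ∀ i, ν i ≠ 1) (hz : ∀ i c, z i * a c * (z i)⁻¹ = a (ν i * c)) : False := by
  classical
  have := Fintype.ofFinite R
  obtain ⟨p, hchar⟩ := CharP.exists R
  obtain ⟨⟨n, hn0⟩, hp, hR⟩ := FiniteField.card R p
  simp only [PNat.mk_coe] at hR
  have hfp : Fact p.Prime := ⟨hp⟩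
  obtain ⟨k, m, hm, hG⟩ := Nat.exists_eq_pow_mul_and_not_dvd (n := Nat.card G) Nat.card_pos.ne' p hp.ne_one
  have hm0 : 0 < m := by
    rcases Nat.eq_zero_or_pos m with h | h
    · exact absurd (h ▸ dvd_zero p) hm
    · exact h
  -- the additive group
  have ha0 : a 0 = 1 := by
    have h1 := ha 0 0
    rw [add_zero] at h1
    exact (left_eq_mul.1 h1)
  let φ : Multiplicative R →* G :=
    { toFun := fun c => a c.toAdd
      map_one' := ha0
      map_mul' := fun c d => ha _ _ }
  let U : Subgroup G := φ.range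
  have hUmem : ∀ u ∈ U, ∃ c : R, u = a c := by
    rintro _ ⟨c, rfl⟩
    exact ⟨c.toAdd, rfl⟩
  have hUa : ∀ c, a c ∈ U := fun c => ⟨Multiplicative.ofAdd c, rfl⟩
  have hUcard : Nat.card U ∣ p ^ n := by
    have h1 : Nat.card U ∣ Nat.card (Multiplicative R) := Subgroup.card_range_dvd φ
    rwa [show Nat.card (Multiplicative R) = p ^ n by
      rw [← hR, ← Nat.card_eq_fintype_card]
      exact Nat.card_congr Multiplicative.toAdd] at h1
  have hmco : m.Coprime (Nat.card U) :=
    Nat.Coprime.coprime_dvd_right hUcard (Nat.Coprime.pow_right n ((hp.coprime_iff_not_dvd.2 hm).symm))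
  -- the powers
  have hpw : ∀ (i : κ) (j : ℕ) (c : R), z i ^ j * a c * (z i ^ j)⁻¹ = a (ν i ^ j * c) := by
    intro i j
    induction j with
    | zero => intro c; simp
    | succ j ih =>
      intro c
      have h1 : z i ^ (j + 1) * a c * (z i ^ (j + 1))⁻¹ = z i * (z i ^ j * a c * (z i ^ j)⁻¹) * (z i)⁻¹ := by
        rw [pow_succ']
        group
      rw [h1, ih, hz, pow_succ', mul_assoc]
  have hν' : ∀ i, ν i ^ p ^ k ≠ 1 := by
    intro i h
    apply hν i
    have h1 : (ν i - 1) ^ p ^ k = 0 := by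
      rw [sub_pow_char_pow, h, one_pow, sub_self]
    exact sub_eq_zero.1 (pow_eq_zero_iff (pow_pos hp.pos k).ne' |>.1 h1)
  obtain ⟨c, hc1⟩ := ha1
  apply hc1
  apply hE.single
  intro ω
  obtain ⟨i, hi⟩ := cover_ab (x := fun i => z i ^ p ^ k) (r := fun _ => m) (ω := ω) (U := U) (fun _ => hm0)
    (by
      intro i
      show (z i ^ p ^ k) ^ m = 1
      rw [← pow_mul, ← hG, pow_card_eq_one'])
    (by
      intro i j
      exact (Commute.pow_pow (hc i j) _ _).eq)
    (by
      intro u _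
      obtain ⟨i, hi⟩ := hcov (u • ω)
      refine ⟨i, ?_⟩
      have h1 : ∀ j : ℕ, z i ^ j • u • ω = u • ω := by
        intro j
        induction j with
        | zero => rw [pow_zero, one_smul]
        | succ j ih => rw [pow_succ, mul_smul, hi, ih]
      exact h1 _)
    (by
      intro i u hu
      obtain ⟨c, rfl⟩ := hUmem u hu
      rw [hpw]
      exact hUa _)
    (by
      intro u hu v hv
      obtain ⟨c, rfl⟩ := hUmem u hu
      obtain ⟨d, rfl⟩ := hUmem v hv
      rw [← ha, ← ha, add_comm])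
    (fun _ => hmco)
  have hi' : ∀ c, (z i ^ p ^ k) • a c • ω = a c • ω := fun c => hi (a c) (hUa c)
  have h0 : (z i ^ p ^ k) • ω = ω := by
    have := hi' 0
    rwa [ha0, one_smul] at this
  have h0' : (z i ^ p ^ k)⁻¹ • ω = ω := by rw [inv_smul_eq_iff, h0]
  have hfix : ∀ d, a (ν i ^ p ^ k * d) • ω = a d • ω := by
    intro d
    rw [← hpw, mul_smul, mul_smul, h0', hi']
  have hne : ν i ^ p ^ k - 1 ≠ 0 := sub_ne_zero.2 (hν' i)
  have h1 := hfix ((ν i ^ p ^ k - 1)⁻¹ * c)
  have h2 : ν i ^ p ^ k * ((ν i ^ p ^ k - 1)⁻¹ * c) = c + (ν i ^ p ^ k - 1)⁻¹ * c := by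
    field_simp
    ring
  rw [h2, add_comm, ha, mul_smul] at h1
  exact smul_left_cancel _ h1

end Cfsg.Agent.H579.RC
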